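import Groth.Agent.EtFound.LiftEtale

/-! Standard étale algebras lift along maps all of whose elements are fractions. -/

universe u

open Polynomial
open scoped TensorProduct

namespace Groth.Agent.FibEtLift

variable {A T C : Type u} [CommRing A] [CommRing T] [CommRing C] [Algebra A T]

theorem exists_common_den (hT : ∀ t : T, ∃ a b : A, IsUnit (algebraMap A T b) ∧ algebraMap A T b * t = algebraMap A T a)
    (s : Finset T) : ∃ c : A, IsUnit (algebraMap A T c) ∧ ∀ t ∈ s, t * algebraMap A T c ∈ (algebraMap A T).range := by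
  classical
  induction s using Finset.induction_on with
  | empty => exact ⟨1, by simp, fun t ht => by simp at ht⟩
  | insert t s _ ih =>
    obtain ⟨c, hc, h⟩ := ih
    obtain ⟨a, b, hb, e⟩ := hT t
    refine ⟨b * c, by rw [map_mul]; exact hb.mul hc, fun t' ht' => ?_⟩
    rcases Finset.mem_insert.mp ht' with rfl | hm
    · exact ⟨a * c, by rw [map_mul, map_mul, ← e]; ring⟩
    · obtain ⟨a', ha'⟩ := h t' hm
      exact ⟨b * a', by rw [map_mul, map_mul, ha']; ring⟩

theorem exists_standardEtale_lift
    (hT : ∀ t : T, ∃ a b : A, IsUnit (algebraMap A T b) ∧ algebraMap A T b * t = algebraMap A T a)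
    [Algebra T C] [Algebra.IsStandardEtale T C] :
    ∃ (P : StandardEtalePair A), Nonempty (T ⊗[A] P.Ring ≃ₐ[T] C) := by
  classical
  obtain ⟨Q⟩ : Nonempty (StandardEtalePresentation T C) := inferInstance
  obtain ⟨c, hc, hden⟩ := exists_common_den hT (Q.f.coeffs ∪ Q.g.coeffs)
  let cT := algebraMap A T c
  have hrange : ∀ (p : T[X]) (i : ℕ), (p = Q.f ∨ p = Q.g) →
      p.coeff i * cT ∈ (algebraMap A T).range := by
    intro p i hp
    by_cases h0 : p.coeff i = 0
    · rw [h0, zero_mul]; exact zero_mem _
    · exact hden _ (by rcases hp with rfl | rfl <;> simp [coeff_mem_coeffs h0])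
  have hcT : cT ∈ (algebraMap A T).range := ⟨c, rfl⟩
  have hliftf : Q.f.scaleRoots cT ∈ Polynomial.lifts (algebraMap A T) := by
    rw [lifts_iff_coeff_lifts]
    intro i
    rw [coeff_scaleRoots]
    rcases Nat.eq_zero_or_pos (Q.f.natDegree - i) with h | h
    · rw [h, pow_zero, mul_one]
      by_cases hi : i = Q.f.natDegree
      · exact ⟨1, by rw [map_one, hi, Q.monic_f.coeff_natDegree]⟩
      · exact ⟨0, by rw [map_zero, coeff_eq_zero_of_natDegree_lt (by omega)]⟩
    · obtain ⟨k, hk⟩ := Nat.exists_eq_add_of_le' h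
      rw [hk, pow_succ', ← mul_assoc]
      exact mul_mem (hrange _ i (Or.inl rfl)) (pow_mem hcT k)
  have hliftg : Polynomial.C cT * Q.g.scaleRoots cT ∈ Polynomial.lifts (algebraMap A T) := by
    rw [lifts_iff_coeff_lifts]
    intro i
    rw [coeff_C_mul, coeff_scaleRoots, show cT * (Q.g.coeff i * cT ^ (Q.g.natDegree - i)) =
      (Q.g.coeff i * cT) * cT ^ (Q.g.natDegree - i) by ring]
    exact mul_mem (hrange _ i (Or.inr rfl)) (pow_mem hcT _)
  obtain ⟨f, hf, -, hfm⟩ := Polynomial.lifts_and_natDegree_eq_and_monic hliftf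
    ((monic_scaleRoots_iff cT).mpr Q.monic_f)
  obtain ⟨g, hg⟩ := hliftg
  change g.map (algebraMap A T) = _ at hg
  let P : StandardEtalePair A :=
    ⟨f, hfm, g * derivative f, g, 0, 1, by rw [mul_zero, add_zero, pow_one]; ring⟩
  let R' : StandardEtalePair T := P.map (algebraMap A T)
  let F := Q.f.scaleRoots cT
  have hfR : R'.f = F := hf
  have hgR : R'.g = (Polynomial.C cT * Q.g.scaleRoots cT) * derivative F := by
    change (g * derivative f).map _ = _
    rw [Polynomial.map_mul, hg, ← derivative_map, hf]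
  have hscale : ∀ {B : Type u} [CommRing B] [Algebra T B] (p : T[X]) (z : B),
      aeval (algebraMap T B cT * z) (p.scaleRoots cT) = algebraMap T B cT ^ p.natDegree * aeval z p :=
    fun p z => scaleRoots_eval₂_mul (algebraMap T _) z cT
  have hder : ∀ {B : Type u} [CommRing B] [Algebra T B] (z : B),
      algebraMap T B cT * aeval (algebraMap T B cT * z) (derivative F) =
        algebraMap T B cT ^ Q.f.natDegree * aeval z (derivative Q.f) := by
    intro B _ _ z
    have e : F.comp (Polynomial.C cT * X) = Polynomial.C (cT ^ Q.f.natDegree) * Q.f := by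
      have h' := scaleRoots_eval₂_mul (p := Q.f) (Polynomial.C : T →+* T[X]) X cT
      rw [eval₂_C_X, ← C_pow] at h'
      exact h'
    have := congrArg (aeval z) (congrArg derivative e)
    rw [derivative_comp, derivative_C_mul, derivative_C_mul, derivative_X, mul_one] at this
    simp only [map_mul, aeval_C, aeval_comp, aeval_X, map_pow] at this
    exact this
  have hu : ∀ {B : Type u} [CommRing B] [Algebra T B], IsUnit (algebraMap T B cT) := hc.map _
  let y : _ := algebraMap T C cT * Q.x
  have hQ : R'.HasMap y := by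
    refine ⟨?_, ?_⟩
    · rw [hfR, hscale, Q.hasMap.1, mul_zero]
    · rw [hgR, map_mul, map_mul, aeval_C, hscale]
      refine ((hu.mul ((hu.pow _).mul Q.hasMap.2))).mul ?_
      refine isUnit_of_mul_isUnit_right (x := algebraMap T C cT) ?_
      rw [hder]
      exact (hu.pow _).mul Q.hasMap.isUnit_derivative_f
  obtain ⟨v, hv⟩ := hu (B := R'.Ring)
  let z : R'.Ring := ↑v⁻¹ * R'.X
  have hz : algebraMap T R'.Ring cT * z = R'.X := by
    simp only [z, ← hv, Units.mul_inv_cancel_left]
  have hR : Q.P.HasMap z := by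
    have h := R'.hasMap_X
    rw [StandardEtalePair.HasMap, hfR, hgR, ← hz, map_mul, map_mul, aeval_C, hscale, hscale,
      IsUnit.mul_iff, IsUnit.mul_iff, IsUnit.mul_iff] at h
    refine ⟨?_, h.2.1.2.2⟩
    exact (hu.pow _).mul_right_eq_zero.mp h.1
  let e : R'.Ring ≃ₐ[T] C := AlgEquiv.ofAlgHom (R'.lift y hQ)
    ((Q.P.lift z hR).comp Q.equivRing.toAlgHom)
    (Q.hom_ext (by
      have h1 : R'.lift y hQ z = Q.x := by
        apply hu.mul_left_cancel
        conv_lhs => rw [← AlgHom.commutes (R'.lift y hQ) cT, ← map_mul, hz]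
        exact StandardEtalePair.lift_X _ _ _
      simpa using h1))
    (R'.hom_ext (by
      simp only [AlgHom.comp_apply, StandardEtalePair.lift_X, AlgHom.id_apply, y, map_mul, AlgHom.commutes]
      simpa using hz))
  let Pp : StandardEtalePresentation A P.Ring :=
    ⟨P, P.X, P.hasMap_X, by simpa [StandardEtalePair.lift_X_left] using Function.bijective_id⟩
  exact ⟨P, ⟨(Pp.baseChange (T := T)).equivRing.trans e⟩⟩

end Groth.Agent.FibEtLift
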