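import Groth.Agent.FibEtLift.Ring
import Groth.Prelude.Def_MoreMor
import Mathlib.AlgebraicGeometry.Fiber

/-! Étale neighbourhoods in a fibre lift to the total space. -/

universe u

open CategoryTheory CategoryTheory.Limits AlgebraicGeometry Opposite
open scoped TensorProduct

set_option autoImplicit false
set_option backward.isDefEq.respectTransparency false
set_option backward.isDefEq.respectTransparency.types false
set_option linter.style.haveILetI false

namespace Groth.Agent.FibEtLift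

theorem evaluation_frac {S : Scheme.{u}} {W : S.Opens} (hW : IsAffineOpen W) (s : S) (hs : s ∈ W)
    (r : S.residueField s) : ∃ a b : Γ(S, W), IsUnit (S.evaluation W s hs b) ∧
      S.evaluation W s hs b * r = S.evaluation W s hs a := by
  obtain ⟨t, rfl⟩ := IsLocalRing.residue_surjective (R := S.presheaf.stalk s) r
  letI := TopCat.Presheaf.algebra_section_stalk S.presheaf (⟨s, hs⟩ : W)
  haveI := hW.isLocalization_stalk ⟨s, hs⟩
  obtain ⟨⟨a, b⟩, h⟩ := IsLocalization.surj (hW.primeIdealOf ⟨s, hs⟩).asIdeal.primeCompl t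
  refine ⟨a, b.1, ?_, ?_⟩
  · have := IsLocalization.map_units (S.presheaf.stalk s) b
    exact this.map (S.residue s).hom
  · have h' := congrArg (S.residue s).hom h
    rw [map_mul, mul_comm] at h'
    exact h'

theorem tensor_frac {R A K : Type u} [CommRing R] [CommRing A] [CommRing K] [Algebra R A] [Algebra R K]
    (hK : ∀ r : K, ∃ a b : R, IsUnit (algebraMap R K b) ∧ algebraMap R K b * r = algebraMap R K a)
    (t : A ⊗[R] K) :
    ∃ a b : A, IsUnit (algebraMap A (A ⊗[R] K) b) ∧
      algebraMap A (A ⊗[R] K) b * t = algebraMap A (A ⊗[R] K) a := by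
  have hmove : ∀ x : R, algebraMap A (A ⊗[R] K) (algebraMap R A x) = (1 : A) ⊗ₜ[R] algebraMap R K x := by
    intro x
    rw [Algebra.TensorProduct.algebraMap_apply, Algebra.algebraMap_self_apply, Algebra.algebraMap_eq_smul_one,
      Algebra.algebraMap_eq_smul_one, TensorProduct.smul_tmul]
  induction t with
  | zero => exact ⟨0, 1, by rw [map_one]; exact isUnit_one, by simp⟩
  | tmul x r =>
    obtain ⟨a, b, hb, e⟩ := hK r
    refine ⟨algebraMap R A a * x, algebraMap R A b, ?_, ?_⟩
    · rw [hmove]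
      exact hb.map Algebra.TensorProduct.includeRight
    · rw [hmove, Algebra.TensorProduct.tmul_mul_tmul, one_mul, e, Algebra.TensorProduct.algebraMap_apply,
        Algebra.algebraMap_self_apply, Algebra.algebraMap_eq_smul_one, ← TensorProduct.smul_tmul,
        Algebra.smul_def]
  | add t₁ t₂ h₁ h₂ =>
    obtain ⟨a, b, hb, e⟩ := h₁
    obtain ⟨a', b', hb', e'⟩ := h₂
    refine ⟨a * b' + a' * b, b * b', by rw [map_mul]; exact hb.mul hb', ?_⟩
    rw [map_mul, map_add, map_mul, map_mul, ← e, ← e']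
    ring

theorem isPullback_comp_mono {P X Y Z W : Scheme.{u}} {fst : P ⟶ X} {snd : P ⟶ Y} {f : X ⟶ Z} {g : Y ⟶ Z}
    (h : IsPullback fst snd f g) (m : Z ⟶ W) [Mono m] : IsPullback fst snd (f ≫ m) (g ≫ m) :=
  ⟨⟨by rw [reassoc_of% h.w]⟩, ⟨PullbackCone.IsLimit.mk _
    (fun c => h.lift c.fst c.snd (by rw [← cancel_mono m, Category.assoc, Category.assoc]; exact c.condition))
    (fun c => h.lift_fst _ _ _) (fun c => h.lift_snd _ _ _)
    (fun c l h₁ h₂ => h.hom_ext (by rw [h₁, h.lift_fst]) (by rw [h₂, h.lift_snd]))⟩⟩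

theorem exists_tensor_square {R A K : CommRingCat.{u}} (φ : R ⟶ A) (θ : R ⟶ K)
    (hK : ∀ r : K, ∃ a b : R, IsUnit (θ b) ∧ θ b * r = θ a) :
    ∃ (T : CommRingCat.{u}) (_ : Algebra A T) (r : Spec T ⟶ Spec K),
      (∀ t : T, ∃ a b : A, IsUnit (algebraMap A T b) ∧ algebraMap A T b * t = algebraMap A T a) ∧
      IsPullback (Spec.map (CommRingCat.ofHom (algebraMap A T))) r (Spec.map φ) (Spec.map θ) := by
  letI : Algebra R A := φ.hom.toAlgebra
  letI : Algebra R K := θ.hom.toAlgebra
  exact ⟨CommRingCat.of (A ⊗[R] K), inferInstanceAs (Algebra A (A ⊗[R] K)),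
    Spec.map (CommRingCat.ofHom Algebra.TensorProduct.includeRight.toRingHom),
    fun t => tensor_frac hK t,
    isPullback_SpecMap_of_isPushout φ θ _ _ (CommRingCat.isPushout_tensorProduct R A K)⟩

/-- An étale scheme over a preimmersed subscheme lifts near a point lying in a good affine chart. -/
theorem exists_lift_aux {X F V : Scheme.{u}} (A T : CommRingCat.{u}) [Algebra A T]
    (hT : ∀ t : T, ∃ a b : A, IsUnit (algebraMap A T b) ∧ algebraMap A T b * t = algebraMap A T a)
    (j : Spec A ⟶ X) [IsOpenImmersion j] (i : F ⟶ X) (k : Spec T ⟶ F)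
    (sq : IsPullback k (Spec.map (CommRingCat.ofHom (algebraMap A T))) i j)
    (g : V ⟶ F) [Etale g] (v : V) (hv : g v ∈ Set.range k) :
    ∃ (U L : Scheme.{u}) (p : U ⟶ X) (m₀ : L ⟶ U) (o : L ⟶ V) (l : L),
      Etale p ∧ IsOpenImmersion o ∧ o l = v ∧ IsPullback m₀ (o ≫ g) p i := by
  haveI hk : IsOpenImmersion k := MorphismProperty.of_isPullback sq.flip inferInstance
  obtain ⟨t, ht⟩ := hv
  obtain ⟨v', hv', hv''⟩ := Scheme.Pullback.exists_preimage_pullback (f := g) (g := k) v t ht.symm
  obtain ⟨C0, w, hw, hv0, -⟩ := Scheme.exists_affine_mem_range_and_range_subset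
    (x := v') (U := (⊤ : (pullback g k).Opens)) (by simp)
  obtain ⟨c, hc⟩ := hv0
  obtain ⟨ψ, hψ⟩ := Spec.map_surjective (w ≫ pullback.snd g k)
  letI := ψ.hom.toAlgebra
  have : Algebra.Etale T C0 := by
    have h : AlgebraicGeometry.Etale (Spec.map ψ) := by
      have hs : AlgebraicGeometry.Etale (pullback.snd g k) :=
        MorphismProperty.of_isPullback (P := @AlgebraicGeometry.Etale) (IsPullback.of_hasPullback g k) ‹_›
      rw [hψ]; infer_instance
    exact RingHom.etale_algebraMap.1 ((HasRingHomProperty.Spec_iff (P := @AlgebraicGeometry.Etale)).mp h)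
  obtain ⟨d, hdc, hC⟩ := Algebra.IsEtaleAt.exists_isStandardEtale (R := T) c.asIdeal
  obtain ⟨P, ⟨eC⟩⟩ := exists_standardEtale_lift (A := A) (T := T) (C := Localization.Away d) hT
  let B : CommRingCat.{u} := CommRingCat.of P.Ring
  let b : Spec B ⟶ Spec A := Spec.map (CommRingCat.ofHom (algebraMap A P.Ring))
  have hb : AlgebraicGeometry.Etale b := by
    rw [HasRingHomProperty.Spec_iff (P := @AlgebraicGeometry.Etale)]
    exact RingHom.etale_algebraMap.2 inferInstance
  let L : CommRingCat.{u} := CommRingCat.of (Localization.Away d)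
  let q : Spec T ⟶ Spec A := Spec.map (CommRingCat.ofHom (algebraMap A T))
  let π : Spec L ⟶ Spec T := Spec.map (CommRingCat.ofHom (algebraMap T (Localization.Away d)))
  let eI : CommRingCat.of (T ⊗[A] P.Ring) ≅ L := eC.toRingEquiv.toCommRingCatIso
  let ε : Spec L ≅ Spec (CommRingCat.of (T ⊗[A] P.Ring)) := Scheme.Spec.mapIso eI.op
  let m₀ : Spec L ⟶ Spec B :=
    ε.hom ≫ Spec.map (CommRingCat.ofHom Algebra.TensorProduct.includeRight.toRingHom)
  have hε : ε.hom ≫ Spec.map (CommRingCat.ofHom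
      (Algebra.TensorProduct.includeLeftRingHom : T →+* T ⊗[A] P.Ring)) = π := by
    change Spec.map _ ≫ Spec.map _ = _
    rw [← Spec.map_comp]
    refine congrArg Spec.map ?_
    ext z
    exact eC.commutes z
  have sq2 : IsPullback π m₀ q b :=
    (isPullback_SpecMap_of_isPushout _ _ _ _ (CommRingCat.isPushout_tensorProduct A T P.Ring)).of_iso
      ε.symm (Iso.refl _) (Iso.refl _) (Iso.refl _)
      (by rw [← hε]; simp) (by simp [m₀]) (by simp; rfl) (by simp; rfl)
  let o : Spec L ⟶ V :=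
    Spec.map (CommRingCat.ofHom (algebraMap C0 (Localization.Away d))) ≫ w ≫ pullback.fst g k
  have ho : IsOpenImmersion o := by
    have h1 : IsOpenImmersion (Spec.map (CommRingCat.ofHom (algebraMap C0 (Localization.Away d)))) :=
      IsOpenImmersion.of_isLocalization d
    have h2 : IsOpenImmersion (pullback.fst g k) :=
      MorphismProperty.of_isPullback (P := @IsOpenImmersion) (IsPullback.of_hasPullback g k).flip hk
    infer_instance
  have hog : o ≫ g = π ≫ k := by
    simp only [o, Category.assoc, pullback.condition]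
    rw [← Category.assoc w, ← hψ, ← Category.assoc, ← Spec.map_comp]
    refine congrArg (· ≫ k) (congrArg Spec.map ?_)
    ext z
    exact (IsScalarTower.algebraMap_apply T C0 (Localization.Away d) z).symm
  obtain ⟨l, hl⟩ : c ∈ Set.range (Spec.map (CommRingCat.ofHom (algebraMap C0 (Localization.Away d)))) :=
    (PrimeSpectrum.localization_away_comap_range (Localization.Away d) d).ge hdc
  refine ⟨Spec B, Spec L, b ≫ j, m₀, o, l, inferInstance, ho, ?_, ?_⟩
  · rw [← hv']
    show pullback.fst g k (w (Spec.map (CommRingCat.ofHom (algebraMap C0 (Localization.Away d))) l)) = _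
    exact congrArg (pullback.fst g k) ((congrArg w hl).trans hc)
  · rw [hog]
    exact sq2.flip.paste_vert sq.flip

theorem exists_etale_nbhd {X S V : Scheme.{u}} (f : X ⟶ S) (x : X)
    (g : V ⟶ f.fiber (f x)) [Etale g] (v : V) (hv : g v = f.asFiber x) :
    ∃ (U : Scheme.{u}) (p : U ⟶ X) (u : U) (m : (p ≫ f).fiber (f x) ⟶ V) (u' : ↑((p ≫ f).fiber (f x))),
      Etale p ∧ p u = x ∧ IsOpenImmersion m ∧ m ≫ g = MoreMor.fiberMap p f (f x) ∧
      (p ≫ f).fiberι (f x) u' = u ∧ m u' = v := by
  obtain ⟨W, hW, hsW, -⟩ := exists_isAffineOpen_mem_and_subset (x := f x) (U := (⊤ : S.Opens)) trivial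
  obtain ⟨U, hU, hxU, e⟩ := exists_isAffineOpen_mem_and_subset (x := x) (U := f ⁻¹ᵁ W) hsW
  let s := f x
  let θ : Γ(S, W) ⟶ S.residueField s := S.evaluation W s hsW
  let j : Spec Γ(X, U) ⟶ X := hU.fromSpec
  have hj : j ≫ f = Spec.map (f.appLE W U e) ≫ hW.fromSpec := (hW.SpecMap_appLE_fromSpec f hU e).symm
  have hθ : Spec.map θ ≫ hW.fromSpec = S.fromSpecResidueField s := by
    show Spec.map (S.presheaf.germ W s hsW ≫ S.residue s) ≫ _ = Spec.map (S.residue s) ≫ S.fromSpecStalk s
    rw [Spec.map_comp, Category.assoc, ← hW.fromSpecStalk_eq_fromSpecStalk hsW]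
    rfl
  obtain ⟨T, _, r, hT, hpb⟩ := exists_tensor_square (f.appLE W U e) θ (evaluation_frac hW s hsW)
  let q : Spec T ⟶ Spec Γ(X, U) := Spec.map (CommRingCat.ofHom (algebraMap Γ(X, U) T))
  have hout : IsPullback q r (j ≫ f) (S.fromSpecResidueField s) := by
    rw [hj, ← hθ]
    exact isPullback_comp_mono hpb hW.fromSpec
  let k : Spec T ⟶ f.fiber s := pullback.lift (q ≫ j) r (by rw [Category.assoc, hout.w])
  have hkι : k ≫ f.fiberι s = q ≫ j := pullback.lift_fst _ _ _
  have hkr : k ≫ f.fiberToSpecResidueField s = r := pullback.lift_snd _ _ _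
  have sq : IsPullback k q (f.fiberι s) j :=
    (IsPullback.of_bot (by rw [show k ≫ pullback.snd f (S.fromSpecResidueField s) = r from hkr]; exact hout)
      hkι.symm (IsPullback.of_hasPullback f (S.fromSpecResidueField s))).flip
  obtain ⟨a, ha⟩ : x ∈ Set.range j := by rw [hU.range_fromSpec]; exact hxU
  obtain ⟨z, hz, -⟩ := Scheme.Pullback.exists_preimage_pullback (f := f.fiberι s) (g := j) (g v) a
    (by rw [hv, ha, Scheme.Hom.fiberι_asFiber])
  have hgv : g v ∈ Set.range k := by
    refine ⟨sq.isoPullback.inv z, ?_⟩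
    rw [← Scheme.Hom.comp_apply, sq.isoPullback_inv_fst, hz]
  obtain ⟨U', L, p, m₀, o, l, hp, ho, hol, sq3⟩ := exists_lift_aux Γ(X, U) T hT j (f.fiberι s) k sq g v hgv
  have sq4 : IsPullback m₀ ((o ≫ g) ≫ f.fiberToSpecResidueField s) (p ≫ f) (S.fromSpecResidueField s) :=
    sq3.paste_vert (IsPullback.of_hasPullback f (S.fromSpecResidueField s))
  let E : L ≅ (p ≫ f).fiber s := sq4.isoPullback
  have hE1 : E.hom ≫ (p ≫ f).fiberι s = m₀ := sq4.isoPullback_hom_fst
  have hE2 : E.hom ≫ (p ≫ f).fiberToSpecResidueField s = (o ≫ g) ≫ f.fiberToSpecResidueField s :=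
    sq4.isoPullback_hom_snd
  refine ⟨U', p, m₀ l, E.inv ≫ o, E.hom l, hp, ?_, inferInstance, ?_, congr($hE1 l), ?_⟩
  · refine (congr($(sq3.w) l)).trans ?_
    show f.fiberι s (g (o l)) = x
    rw [hol, hv, Scheme.Hom.fiberι_asFiber]
  · refine (Category.assoc E.inv o g).trans ((Iso.inv_comp_eq E).mpr ?_)
    apply pullback.hom_ext
    · show (o ≫ g) ≫ f.fiberι s = (E.hom ≫ MoreMor.fiberMap p f s) ≫ f.fiberι s
      rw [Category.assoc E.hom, show MoreMor.fiberMap p f s ≫ f.fiberι s = (p ≫ f).fiberι s ≫ p from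
        pullback.lift_fst _ _ _, reassoc_of% hE1]
      exact sq3.w.symm
    · show (o ≫ g) ≫ f.fiberToSpecResidueField s = (E.hom ≫ MoreMor.fiberMap p f s) ≫ f.fiberToSpecResidueField s
      rw [Category.assoc E.hom, show MoreMor.fiberMap p f s ≫ f.fiberToSpecResidueField s =
        (p ≫ f).fiberToSpecResidueField s from pullback.lift_snd _ _ _, hE2]
  · show o (E.inv (E.hom l)) = v
    exact (congrArg o (congr($(E.hom_inv_id) l))).trans hol

end Groth.Agent.FibEtLift
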